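import Cfsg.Agent.H940.Cover

/-!
# Splitting of the divisor checks of `H940.Engine` into short kernel computations (helper973)
-/

set_option autoImplicit false

namespace Cfsg.Agent.H973.Split

open Cfsg.Agent.OrdDiv Cfsg.Agent.H940.Eng

/-- one exponent of the first prime at a time -/
theorem all_cons {p e : ℕ} {l : List (ℕ × ℕ)} {P : ℕ → Bool}
    (h : ∀ k ≤ e, ((divsT l).all fun d => P (p ^ k * d)) = true) : (divsT ((p, e) :: l)).all P = true := by
  rw [List.all_eq_true]
  intro x hx
  rw [divsT, List.mem_flatMap] at hx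
  obtain ⟨k, hk, hx⟩ := hx
  obtain ⟨d, hd, rfl⟩ := List.mem_map.1 hx
  exact List.all_eq_true.1 (h k (Nat.le_of_lt_succ (List.mem_range.1 hk))) d hd

/-- `chkO` from its parts -/
theorem chkO_of {l : List (ℕ × ℕ)} {n a : ℕ} {lD : List (ℕ × ℕ)} {os full : List ℕ} {bd : ℕ} {loc : List LD}
    {ords : List ℕ} (h1 : (lD.all fun x => isPrimeB x.1) = true) (h2 : (a * prodl lD == n) = true)
    (h3 : ((divsT lD).all fun d => d == 1 || os.contains (n / d) || bad l n full bd loc ords (n / d)) = true) :
    chkO l n a lD os full bd loc ords = true := by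
  unfold chkO
  rw [Bool.and_eq_true, Bool.and_eq_true]
  exact ⟨⟨h1, h2⟩, h3⟩

/-- `chk` from its parts -/
theorem chk_of {l : List (ℕ × ℕ)} {n a b : ℕ} {lD : List (ℕ × ℕ)} {allow full : List ℕ} {bd : ℕ} {loc : List LD}
    {ords : List ℕ} (h1 : (lD.all fun x => isPrimeB x.1) = true) (h2 : (Nat.lcm a b * prodl lD == n) = true)
    (h3 : ((divsT lD).all fun d => d == 1 || allow.contains d || bad l n full bd loc ords (n / d)) = true) :
    chk l n a b lD allow full bd loc ords = true := by
  unfold chk check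
  rw [Bool.and_eq_true, Bool.and_eq_true]
  exact ⟨⟨h1, h2⟩, h3⟩

end Cfsg.Agent.H973.Split
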