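import Cfsg.Agent.H973.SepHN.Items
import Cfsg.Agent.H973.SepHN.Split

set_option autoImplicit false

namespace Cfsg.Agent.H973.SepHN

open Cfsg.Agent.H940.Eng Cfsg.Agent.H940.Eng.D

/-- the test for the item `i4` -/
def t_i4 (d : ℕ) : Bool := d == 1 || i4.ords.contains (n_hn / d) || bad l_hn n_hn i4.full 60 loc o_hn (n_hn / d)

theorem chk4_0 : ((divsT [(5, 6), (7, 1), (11, 1), (19, 1)]).all fun d => t_i4 (3 ^ 0 * d)) = true := by decide +kernel

theorem chk4_1 : ((divsT [(5, 6), (7, 1), (11, 1), (19, 1)]).all fun d => t_i4 (3 ^ 1 * d)) = true := by decide +kernel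

theorem chk4_2 : ((divsT [(5, 6), (7, 1), (11, 1), (19, 1)]).all fun d => t_i4 (3 ^ 2 * d)) = true := by decide +kernel

theorem chk4_3 : ((divsT [(5, 6), (7, 1), (11, 1), (19, 1)]).all fun d => t_i4 (3 ^ 3 * d)) = true := by decide +kernel

theorem chk4_4 : ((divsT [(5, 6), (7, 1), (11, 1), (19, 1)]).all fun d => t_i4 (3 ^ 4 * d)) = true := by decide +kernel

theorem chk4_5 : ((divsT [(5, 6), (7, 1), (11, 1), (19, 1)]).all fun d => t_i4 (3 ^ 5 * d)) = true := by decide +kernel

theorem chk4_6 : ((divsT [(5, 6), (7, 1), (11, 1), (19, 1)]).all fun d => t_i4 (3 ^ 6 * d)) = true := by decide +kernel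

/-- a numerical check -/
theorem chk4 : chkO l_hn n_hn i4.a [(3, 6), (5, 6), (7, 1), (11, 1), (19, 1)] i4.ords i4.full 60 loc o_hn = true := by
  refine Split.chkO_of (by decide +kernel) (by decide +kernel) (Split.all_cons (P := t_i4) fun k hk => ?_)
  interval_cases k
  · exact chk4_0
  · exact chk4_1
  · exact chk4_2
  · exact chk4_3
  · exact chk4_4
  · exact chk4_5
  · exact chk4_6

end Cfsg.Agent.H973.SepHN
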