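import Cfsg.Agent.H973.SepHN.Items
import Cfsg.Agent.H973.SepHN.Split

set_option autoImplicit false

namespace Cfsg.Agent.H973.SepHN

open Cfsg.Agent.H940.Eng Cfsg.Agent.H940.Eng.D

/-- the test for the item `i5` -/
def t_i5 (d : ℕ) : Bool := d == 1 || i5.ords.contains (n_hn / d) || bad l_hn n_hn i5.full 60 loc o_hn (n_hn / d)

theorem chk5_0 : ((divsT [(5, 6), (7, 1), (11, 1), (19, 1)]).all fun d => t_i5 (2 ^ 0 * d)) = true := by decide +kernel

theorem chk5_1 : ((divsT [(5, 6), (7, 1), (11, 1), (19, 1)]).all fun d => t_i5 (2 ^ 1 * d)) = true := by decide +kernel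

theorem chk5_2 : ((divsT [(5, 6), (7, 1), (11, 1), (19, 1)]).all fun d => t_i5 (2 ^ 2 * d)) = true := by decide +kernel

theorem chk5_3 : ((divsT [(5, 6), (7, 1), (11, 1), (19, 1)]).all fun d => t_i5 (2 ^ 3 * d)) = true := by decide +kernel

theorem chk5_4 : ((divsT [(5, 6), (7, 1), (11, 1), (19, 1)]).all fun d => t_i5 (2 ^ 4 * d)) = true := by decide +kernel

theorem chk5_5 : ((divsT [(5, 6), (7, 1), (11, 1), (19, 1)]).all fun d => t_i5 (2 ^ 5 * d)) = true := by decide +kernel

theorem chk5_6 : ((divsT [(5, 6), (7, 1), (11, 1), (19, 1)]).all fun d => t_i5 (2 ^ 6 * d)) = true := by decide +kernel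

theorem chk5_7 : ((divsT [(5, 6), (7, 1), (11, 1), (19, 1)]).all fun d => t_i5 (2 ^ 7 * d)) = true := by decide +kernel

theorem chk5_8 : ((divsT [(5, 6), (7, 1), (11, 1), (19, 1)]).all fun d => t_i5 (2 ^ 8 * d)) = true := by decide +kernel

theorem chk5_9 : ((divsT [(5, 6), (7, 1), (11, 1), (19, 1)]).all fun d => t_i5 (2 ^ 9 * d)) = true := by decide +kernel

theorem chk5_10 : ((divsT [(5, 6), (7, 1), (11, 1), (19, 1)]).all fun d => t_i5 (2 ^ 10 * d)) = true := by decide +kernel

theorem chk5_11 : ((divsT [(5, 6), (7, 1), (11, 1), (19, 1)]).all fun d => t_i5 (2 ^ 11 * d)) = true := by decide +kernel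

theorem chk5_12 : ((divsT [(5, 6), (7, 1), (11, 1), (19, 1)]).all fun d => t_i5 (2 ^ 12 * d)) = true := by decide +kernel

theorem chk5_13 : ((divsT [(5, 6), (7, 1), (11, 1), (19, 1)]).all fun d => t_i5 (2 ^ 13 * d)) = true := by decide +kernel

theorem chk5_14 : ((divsT [(5, 6), (7, 1), (11, 1), (19, 1)]).all fun d => t_i5 (2 ^ 14 * d)) = true := by decide +kernel

/-- a numerical check -/
theorem chk5 : chkO l_hn n_hn i5.a [(2, 14), (5, 6), (7, 1), (11, 1), (19, 1)] i5.ords i5.full 60 loc o_hn = true := by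
  refine Split.chkO_of (by decide +kernel) (by decide +kernel) (Split.all_cons (P := t_i5) fun k hk => ?_)
  interval_cases k
  · exact chk5_0
  · exact chk5_1
  · exact chk5_2
  · exact chk5_3
  · exact chk5_4
  · exact chk5_5
  · exact chk5_6
  · exact chk5_7
  · exact chk5_8
  · exact chk5_9
  · exact chk5_10
  · exact chk5_11
  · exact chk5_12
  · exact chk5_13
  · exact chk5_14

end Cfsg.Agent.H973.SepHN
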