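import Cfsg.Agent.H973.SepHN.Items

set_option autoImplicit false

namespace Cfsg.Agent.H973.SepHN

open Cfsg.Agent.H940.Eng Cfsg.Agent.H940.Eng.D

/-- a numerical check -/
theorem cov : covB n_hn (fun _ _ => false) 4 [i0, i1, i2, i3, i4, i5] = true := by decide +kernel

end Cfsg.Agent.H973.SepHN
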