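import Cfsg.Agent.H973.SepHN.Items
import Cfsg.Agent.H973.SepHN.Split

set_option autoImplicit false

namespace Cfsg.Agent.H973.SepHN

open Cfsg.Agent.H940.Eng Cfsg.Agent.H940.Eng.D

/-- the test for the overgroups of `H` -/
def t_H (d : ℕ) : Bool := d == 1 || [n_hn / 177408000].contains d || bad l_hn n_hn [] 60 loc o_hn (n_hn / d)

theorem chkH_0_0 : ((divsT [(5, 3), (19, 1)]).all fun d => t_H (2 ^ 0 * (3 ^ 0 * d))) = true := by
  decide +kernel

theorem chkH_0_1 : ((divsT [(5, 3), (19, 1)]).all fun d => t_H (2 ^ 0 * (3 ^ 1 * d))) = true := by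
  decide +kernel

theorem chkH_0_2 : ((divsT [(5, 3), (19, 1)]).all fun d => t_H (2 ^ 0 * (3 ^ 2 * d))) = true := by
  decide +kernel

theorem chkH_0_3 : ((divsT [(5, 3), (19, 1)]).all fun d => t_H (2 ^ 0 * (3 ^ 3 * d))) = true := by
  decide +kernel

theorem chkH_0_4 : ((divsT [(5, 3), (19, 1)]).all fun d => t_H (2 ^ 0 * (3 ^ 4 * d))) = true := by
  decide +kernel

theorem chkH_1_0 : ((divsT [(5, 3), (19, 1)]).all fun d => t_H (2 ^ 1 * (3 ^ 0 * d))) = true := by
  decide +kernel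

theorem chkH_1_1 : ((divsT [(5, 3), (19, 1)]).all fun d => t_H (2 ^ 1 * (3 ^ 1 * d))) = true := by
  decide +kernel

theorem chkH_1_2 : ((divsT [(5, 3), (19, 1)]).all fun d => t_H (2 ^ 1 * (3 ^ 2 * d))) = true := by
  decide +kernel

theorem chkH_1_3 : ((divsT [(5, 3), (19, 1)]).all fun d => t_H (2 ^ 1 * (3 ^ 3 * d))) = true := by
  decide +kernel

theorem chkH_1_4 : ((divsT [(5, 3), (19, 1)]).all fun d => t_H (2 ^ 1 * (3 ^ 4 * d))) = true := by
  decide +kernel

theorem chkH_2_0 : ((divsT [(5, 3), (19, 1)]).all fun d => t_H (2 ^ 2 * (3 ^ 0 * d))) = true := by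
  decide +kernel

theorem chkH_2_1 : ((divsT [(5, 3), (19, 1)]).all fun d => t_H (2 ^ 2 * (3 ^ 1 * d))) = true := by
  decide +kernel

theorem chkH_2_2 : ((divsT [(5, 3), (19, 1)]).all fun d => t_H (2 ^ 2 * (3 ^ 2 * d))) = true := by
  decide +kernel

theorem chkH_2_3 : ((divsT [(5, 3), (19, 1)]).all fun d => t_H (2 ^ 2 * (3 ^ 3 * d))) = true := by
  decide +kernel

theorem chkH_2_4 : ((divsT [(5, 3), (19, 1)]).all fun d => t_H (2 ^ 2 * (3 ^ 4 * d))) = true := by
  decide +kernel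

theorem chkH_3_0 : ((divsT [(5, 3), (19, 1)]).all fun d => t_H (2 ^ 3 * (3 ^ 0 * d))) = true := by
  decide +kernel

theorem chkH_3_1 : ((divsT [(5, 3), (19, 1)]).all fun d => t_H (2 ^ 3 * (3 ^ 1 * d))) = true := by
  decide +kernel

theorem chkH_3_2 : ((divsT [(5, 3), (19, 1)]).all fun d => t_H (2 ^ 3 * (3 ^ 2 * d))) = true := by
  decide +kernel

theorem chkH_3_3 : ((divsT [(5, 3), (19, 1)]).all fun d => t_H (2 ^ 3 * (3 ^ 3 * d))) = true := by
  decide +kernel

theorem chkH_3_4 : ((divsT [(5, 3), (19, 1)]).all fun d => t_H (2 ^ 3 * (3 ^ 4 * d))) = true := by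
  decide +kernel

theorem chkH_0 : ((divsT [(3, 4), (5, 3), (19, 1)]).all fun d => t_H (2 ^ 0 * d)) = true := by
  refine Split.all_cons (P := fun d => t_H (2 ^ 0 * d)) fun j hj => ?_
  interval_cases j
  · exact chkH_0_0
  · exact chkH_0_1
  · exact chkH_0_2
  · exact chkH_0_3
  · exact chkH_0_4

theorem chkH_1 : ((divsT [(3, 4), (5, 3), (19, 1)]).all fun d => t_H (2 ^ 1 * d)) = true := by
  refine Split.all_cons (P := fun d => t_H (2 ^ 1 * d)) fun j hj => ?_
  interval_cases j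
  · exact chkH_1_0
  · exact chkH_1_1
  · exact chkH_1_2
  · exact chkH_1_3
  · exact chkH_1_4

theorem chkH_2 : ((divsT [(3, 4), (5, 3), (19, 1)]).all fun d => t_H (2 ^ 2 * d)) = true := by
  refine Split.all_cons (P := fun d => t_H (2 ^ 2 * d)) fun j hj => ?_
  interval_cases j
  · exact chkH_2_0
  · exact chkH_2_1
  · exact chkH_2_2
  · exact chkH_2_3
  · exact chkH_2_4

theorem chkH_3 : ((divsT [(3, 4), (5, 3), (19, 1)]).all fun d => t_H (2 ^ 3 * d)) = true := by
  refine Split.all_cons (P := fun d => t_H (2 ^ 3 * d)) fun j hj => ?_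
  interval_cases j
  · exact chkH_3_0
  · exact chkH_3_1
  · exact chkH_3_2
  · exact chkH_3_3
  · exact chkH_3_4

/-- a numerical check -/
theorem chkH : chk l_hn n_hn 177408000 177408000 [(2, 3), (3, 4), (5, 3), (19, 1)] [n_hn / 177408000] [] 60 loc o_hn =
    true := by
  refine Split.chk_of (by decide +kernel) (by decide +kernel) (Split.all_cons (P := t_H) fun k hk => ?_)
  interval_cases k
  · exact chkH_0
  · exact chkH_1
  · exact chkH_2
  · exact chkH_3

end Cfsg.Agent.H973.SepHN
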