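import Cfsg.Agent.H973.SepHN.Alt
import Cfsg.Agent.H973.SepHN.ChkA
import Cfsg.Agent.H973.SepHN.ChkB
import Cfsg.Agent.H973.SepHN.ChkC
import Cfsg.Agent.H973.SepHN.ChkD
import Cfsg.Agent.H973.SepHN.ChkE
import Cfsg.Agent.H973.SepHN.ChkF

/-!
# Row `HN` of S5906/S5907 (helper973, task 1429 of helper940)

`five` : the covering argument with `A12`, `2.HS.2` (both maximal) and the normalizers of the Sylow subgroups for
2, 3, 5, 19.
-/

set_option autoImplicit false

namespace Cfsg.Agent.H973.SepHN

open Subgroup Cfsg.Agent.OrdDiv Cfsg.Agent.H940 Cfsg.Agent.H940.Eng Cfsg.Agent.H940.Eng.D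
open Cfsg.Agent.H940.MaxCls
open Cfsg.Agent.HN.NormalH (H)

theorem coatom_A (B : Base) : IsCoatom A := by
  have c := ctx B
  have := fin
  have hL : ∀ L : Subgroup G, A ≤ L → L ≠ ⊤ → Nat.card L = 239500800 ∨ Nat.card L = 3592512000 := by
    intro L hAL hL
    have h := c.ordersD (a := 239500800) [(2, 5), (3, 1), (5, 4), (19, 1)] [239500800, 3592512000] [7] 60
      (by decide +kernel) (card_A ▸ card_dvd_of_le hAL) (fun p hp => by
        rw [List.mem_singleton.1 hp]
        exact full7.mono hAL) hL
    simpa using h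
  refine ⟨ne_top_A, fun K hK => ?_⟩
  by_contra hne
  rcases hL K hK.le hne with h | h
  · exact hK.ne (eq_of_le_of_card_ge hK.le (by rw [h, card_A]))
  · exact no15 B hK.le h hL

theorem coatom_H (B : Base) : IsCoatom H :=
  (ctx B).coatom (a := 177408000) (fun h => by
    have h1 := card_H
    rw [h, card_top, card] at h1
    exact absurd h1 (by decide)) [(2, 3), (3, 4), (5, 3), (19, 1)] [] 60 card_H (fun p hp => absurd hp List.not_mem_nil)
    chkH

theorem normalizer_ne_top {p : ℕ} [Fact p.Prime] (hp : p ≠ 11) (P : Sylow p G) (hP : p ∣ Nat.card P) :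
    normalizer ((P : Subgroup G) : Set G) ≠ ⊤ := by
  have := fin
  have := simple
  intro h
  have hn : (P : Subgroup G).Normal := normalizer_eq_top_iff.1 h
  rcases hn.eq_bot_or_eq_top with h1 | h1
  · have h2 : Nat.card (P : Subgroup G) = 1 := by rw [h1, card_bot]
    rw [h2] at hP
    exact (Fact.out : p.Prime).one_lt.ne' (Nat.dvd_one.1 hP)
  · obtain ⟨n, hn⟩ := IsPGroup.iff_card.1 P.isPGroup'
    have h2 : Nat.card (P : Subgroup G) = n_hn := by rw [h1, card_top, card]
    rw [h2] at hn
    have h3 : 11 ∣ p ^ n := by rw [← hn]; decide +kernel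
    exact hp ((Nat.prime_dvd_prime_iff_eq (by norm_num) Fact.out).1 (Nat.Prime.dvd_of_dvd_pow (by norm_num) h3)).symm

theorem dvd_normalizer {p n : ℕ} [Fact p.Prime] (P : Sylow p G) (h : p ^ n ∣ n_hn) :
    p ^ n ∣ Nat.card (normalizer ((P : Subgroup G) : Set G)) := by
  have := fin
  refine (Sylow.pow_dvd_card_of_pow_dvd_card P (by rw [card]; exact h)).trans (card_dvd_of_le le_normalizer)

theorem good {p n m : ℕ} [Fact p.Prime] (hp : p ≠ 11) (P : Sylow p G) (hn : p ^ n ∣ n_hn) (hm : p ^ n = m)
    (hpn : p ∣ n_hn) (B : Base) {x : CI} (hxa : x.a = m) (hxf : x.full = [p]) (lD : List (ℕ × ℕ))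
    (hc : chkO l_hn n_hn x.a lD x.ords x.full 60 loc o_hn = true) :
    x.Good (normalizer ((P : Subgroup G) : Set G)) := by
  have := fin
  refine (ctx B).goodD (normalizer_ne_top hp P ?_) ?_ ?_ lD 60 hc
  · have h1 := Sylow.pow_dvd_card_of_pow_dvd_card (n := 1) P (by rw [card, pow_one]; exact hpn)
    rwa [pow_one] at h1
  · rw [hxa, ← hm]
    exact dvd_normalizer P hn
  · intro q hq
    rw [hxf] at hq
    rw [List.mem_singleton.1 hq]
    exact full_normalizer Fact.out P

/-- **the row `HN`** -/
theorem five (B : Base) : Sep 5 G := by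
  have := fin
  have : Fact (Nat.Prime 2) := ⟨by norm_num⟩
  have : Fact (Nat.Prime 3) := ⟨by norm_num⟩
  have : Fact (Nat.Prime 5) := ⟨by norm_num⟩
  have : Fact (Nat.Prime 19) := ⟨by norm_num⟩
  let P2 : Sylow 2 G := Classical.arbitrary _
  let P3 : Sylow 3 G := Classical.arbitrary _
  let P5 : Sylow 5 G := Classical.arbitrary _
  let P19 : Sylow 19 G := Classical.arbitrary _
  have g0 : i0.Good A := CI.good_of_coatom (coatom_A B) card_A (by decide) (fun p hp => absurd hp List.not_mem_nil)
  have g1 : i1.Good H := CI.good_of_coatom (coatom_H B) card_H (by decide) (fun p hp => absurd hp List.not_mem_nil)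
  have g2 := good (n := 1) (m := 19) (by norm_num) P19 (by decide +kernel) (by norm_num) (by decide +kernel) B
    (x := i2) rfl rfl _ chk2
  have g3 := good (n := 6) (m := 15625) (by norm_num) P5 (by decide +kernel) (by norm_num) (by decide +kernel) B
    (x := i3) rfl rfl _ chk3
  have g4 := good (n := 14) (m := 16384) (by norm_num) P2 (by decide +kernel) (by norm_num) (by decide +kernel) B
    (x := i4) rfl rfl _ chk4
  have g5 := good (n := 6) (m := 729) (by norm_num) P3 (by decide +kernel) (by norm_num) (by decide +kernel) B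
    (x := i5) rfl rfl _ chk5
  let T : ℕ → Subgroup G := fun k => if k = 0 then A else if k = 1 then H else
    if k = 2 then normalizer ((P19 : Subgroup G) : Set G) else
    if k = 3 then normalizer ((P5 : Subgroup G) : Set G) else
    if k = 4 then normalizer ((P2 : Subgroup G) : Set G) else normalizer ((P3 : Subgroup G) : Set G)
  refine sep_of_cover (k := 4) card (fun _ _ => false) [i0, i1, i2, i3, i4, i5] (fun x => T x.id) ?_
    (fun x _ y _ h => absurd h (by decide)) cov
  intro x hx
  rw [List.mem_cons, List.mem_cons, List.mem_cons, List.mem_cons, List.mem_cons, List.mem_singleton] at hx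
  rcases hx with h | h | h | h | h | h
  · rw [h]; exact g0
  · rw [h]; exact g1
  · rw [h]; exact g2
  · rw [h]; exact g3
  · rw [h]; exact g4
  · rw [h]; exact g5

end Cfsg.Agent.H973.SepHN
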