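import Cfsg.Agent.H973.SepHN.Loc
import Cfsg.Agent.H940.Cover

/-!
# `A12` is maximal in `HN` (helper973)
-/

set_option autoImplicit false

namespace Cfsg.Agent.H973.SepHN

open Subgroup Cfsg.Agent.OrdDiv Cfsg.Agent.H940 Cfsg.Agent.H940.Eng Cfsg.Agent.H940.Eng.D
open Cfsg.Agent.CpAutHN.Alt (Φ Φ_inj A12 cy)
open Cfsg.Agent.H845.HNSeven (X7 c7_mem order_X7 card_cent)
open scoped Pointwise

/-- the subgroup `A12` -/
noncomputable def A : Subgroup G := Φ.range

theorem simple_A12 : IsSimpleGroup A12 := alternatingGroup.isSimpleGroup (by
  rw [Nat.card_eq_fintype_card, Fintype.card_fin]; norm_num)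

theorem card_A12 : Nat.card A12 = 239500800 := by
  rw [nat_card_alternatingGroup, Nat.card_fin]
  decide +kernel

theorem card_A : Nat.card A = 239500800 := by
  rw [← card_A12]
  exact (Nat.card_congr (MonoidHom.ofInjective Φ_inj).toEquiv).symm

theorem ne_top_A : A ≠ ⊤ := by
  intro h
  have h1 := card_A
  rw [h, card_top, card] at h1
  exact absurd h1 (by decide)

instance : IsSimpleGroup A := by
  have := simple_A12
  exact (MulEquiv.isSimpleGroup_congr (MonoidHom.ofInjective Φ_inj)).1 this

/-- the 7-cycle -/
noncomputable def y7 : A12 := ⟨Cfsg.Agent.H845.HNSeven.c7, c7_mem⟩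

theorem order_y7 : orderOf y7 = 7 := by
  rw [← orderOf_injective Φ Φ_inj]
  exact order_X7

/-- the normalizer of the 7-cycle in `A12` -/
theorem card_norm_y7 : Nat.card (normalizer ((zpowers y7 : Subgroup A12) : Set A12)) = 2520 := by
  have := simple_A12
  have hinj := Φ_inj
  have h0 : Nat.card (zpowers y7 : Subgroup A12) = 7 := by rw [Nat.card_zpowers, order_y7]
  -- the centralizer
  have hcle : Nat.card (centralizer ((zpowers y7 : Subgroup A12) : Set A12)) ∣ 420 := by
    rw [H904.SylOne.centralizer_zpowers_eq, ← card_cent]
    let F : centralizer ({y7} : Set A12) →* centralizer ({X7} : Set G) :=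
      { toFun := fun a => ⟨Φ a, mem_centralizer_singleton_iff.2 (by
          have h1 := mem_centralizer_singleton_iff.1 a.2
          have h2 := congrArg Φ h1
          rw [map_mul, map_mul] at h2
          exact h2)⟩
        map_one' := Subtype.ext (map_one Φ)
        map_mul' := fun a b => Subtype.ext (map_mul Φ _ _) }
    refine Subgroup.card_dvd_of_injective F fun a b hab => Subtype.ext (Φ_inj (congrArg Subtype.val hab))
  have h420 : 420 ∣ Nat.card (centralizer ((zpowers y7 : Subgroup A12) : Set A12)) := by
    rw [H904.SylOne.centralizer_zpowers_eq]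
    have h7 : 7 ∣ Nat.card (centralizer ({y7} : Set A12)) := by
      have h3 : y7 ∈ centralizer ({y7} : Set A12) := mem_centralizer_singleton_iff.2 rfl
      have h4 := Subgroup.orderOf_dvd_natCard _ h3
      rwa [order_y7] at h4
    have h60 : 60 ∣ Nat.card (centralizer ({y7} : Set A12)) := by
      have h5 : Nat.card Cfsg.Agent.H845.HNSeven.A5 = 60 := by
        rw [nat_card_alternatingGroup, Nat.card_fin]
        rfl
      rw [← h5]
      let F : Cfsg.Agent.H845.HNSeven.A5 →* centralizer ({y7} : Set A12) :=
        Cfsg.Agent.H845.HNSeven.ι.codRestrict _ fun a =>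
          mem_centralizer_singleton_iff.2 (Cfsg.Agent.H845.HNSeven.ι_comm a)
      exact Subgroup.card_dvd_of_injective F fun a b hab =>
        Cfsg.Agent.H845.HNSeven.ι_inj (congrArg Subtype.val hab)
    exact Nat.Coprime.mul_dvd_of_dvd_of_dvd (by norm_num : Nat.Coprime 7 60) h7 h60
  have hc := Nat.dvd_antisymm hcle h420
  have hna12 : ¬ ∀ a b : A12, a * b = b * a := by
    intro h
    have h1 : centralizer ((zpowers y7 : Subgroup A12) : Set A12) = ⊤ := by
      rw [H904.SylOne.centralizer_zpowers_eq, eq_top_iff]
      intro x _
      exact mem_centralizer_singleton_iff.2 (h _ _)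
    rw [h1, card_top, card_A12] at hc
    exact absurd hc (by norm_num)
  have h3 := cnP_sound hna12 card_A12 (r := 7) (fC := [(2, 2), (3, 1), (5, 1), (7, 1)]) (by decide +kernel)
    (by decide +kernel) (by decide +kernel) h0 (hcle.trans (by decide +kernel))
    (P := fun c m => c != 420 || m == 2520) (by decide +kernel) h0
  rw [hc] at h3
  simpa using h3

/-- **`A12` contains the normalizer of a subgroup of order 7** -/
theorem norm_le_A : normalizer ((zpowers X7 : Subgroup G) : Set G) ≤ A := by
  have := fin
  have h1 : (normalizer ((zpowers y7 : Subgroup A12) : Set A12)).map Φ ≤ normalizer ((zpowers X7 : Subgroup G) : Set G) := by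
    have h2 := le_normalizer_map (H := zpowers y7) Φ
    rw [MonoidHom.map_zpowers] at h2
    exact h2
  have h2 : Nat.card ((normalizer ((zpowers y7 : Subgroup A12) : Set A12)).map Φ) = 2520 := by
    rw [← card_norm_y7]
    exact (Nat.card_congr ((normalizer ((zpowers y7 : Subgroup A12) : Set A12)).equivMapOfInjective Φ Φ_inj).toEquiv).symm
  have h3 := (c7 (R := zpowers X7) (by rw [Nat.card_zpowers, order_X7])).2
  have h4 := eq_of_le_of_card_ge h1 (by rw [h2, h3])
  rw [← h4]
  exact map_le_range Φ _

theorem full7 : Full 7 A :=
  (full_of_card card (r := 7) (by decide +kernel) (by decide +kernel)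
    (by rw [Nat.card_zpowers, order_X7])).mono norm_le_A

theorem X7_mem : X7 ∈ A := ⟨_, rfl⟩

/-- `A12` is self-normalizing -/
theorem norm_A : normalizer (A : Set G) ≤ A := by
  have := fin
  intro g hg
  have : Fact (Nat.Prime 7) := ⟨by norm_num⟩
  have h49 : ¬ 7 ^ 2 ∣ Nat.card A := by rw [card_A]; norm_num
  let y : A := ⟨X7, X7_mem⟩
  have hgm : g * X7 * g⁻¹ ∈ A := (mem_normalizer_iff.1 hg X7).1 X7_mem
  let z : A := ⟨g * X7 * g⁻¹, hgm⟩
  have hy : Nat.card (zpowers y) = 7 := by rw [Nat.card_zpowers, Subgroup.orderOf_mk, order_X7]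
  have hz : Nat.card (zpowers z) = 7 := by
    rw [Nat.card_zpowers, Subgroup.orderOf_mk, ← order_X7]
    exact orderOf_injective (MulAut.conj g).toMonoidHom (MulAut.conj g).injective X7
  obtain ⟨S, hS⟩ := H904.SylOne.exists_sylow hy h49
  obtain ⟨T, hT⟩ := H904.SylOne.exists_sylow hz h49
  obtain ⟨a, ha⟩ := MulAction.exists_smul_eq A T S
  -- `a g` normalizes `⟨X7⟩`
  have h1 : (a : G) * g ∈ normalizer ((zpowers X7 : Subgroup G) : Set G) := by
    have h2 : (a * z * a⁻¹ : A) ∈ (S : Subgroup A) := by
      have h3 : z ∈ (T : Subgroup A) := by rw [hT]; exact mem_zpowers z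
      rw [← ha, Sylow.coe_subgroup_smul]
      exact smul_mem_pointwise_smul z (MulAut.conj a) (T : Subgroup A) h3
    rw [hS] at h2
    obtain ⟨k, hk⟩ := mem_zpowers_iff.1 h2
    have h3 : (a : G) * g * X7 * ((a : G) * g)⁻¹ ∈ zpowers X7 := by
      refine mem_zpowers_iff.2 ⟨k, ?_⟩
      have h4 := congrArg Subtype.val hk
      have h5 : ((a * z * a⁻¹ : A) : G) = (a : G) * g * X7 * ((a : G) * g)⁻¹ := by
        show (a : G) * (g * X7 * g⁻¹) * (a : G)⁻¹ = _
        group
      rw [← h5, ← h4]
      rfl
    have h6 : (zpowers X7).map (MulAut.conj ((a : G) * g)).toMonoidHom = zpowers X7 := by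
      have h7 : (zpowers X7).map (MulAut.conj ((a : G) * g)).toMonoidHom ≤ zpowers X7 := by
        rw [MonoidHom.map_zpowers, zpowers_le]
        exact h3
      refine eq_of_le_of_card_ge h7 ?_
      rw [Nat.card_congr ((zpowers X7).equivMapOfInjective (MulAut.conj ((a : G) * g)).toMonoidHom (MulAut.conj ((a : G) * g)).injective).toEquiv]
    rw [mem_normalizer_iff]
    intro x
    constructor
    · intro hx
      have h8 : (MulAut.conj ((a : G) * g)).toMonoidHom x ∈ (zpowers X7).map (MulAut.conj ((a : G) * g)).toMonoidHom :=
        ⟨x, hx, rfl⟩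
      rw [h6] at h8
      exact h8
    · intro hx
      have h8 : (MulAut.conj ((a : G) * g)).toMonoidHom x ∈ (zpowers X7).map (MulAut.conj ((a : G) * g)).toMonoidHom := by
        rw [h6]
        exact hx
      obtain ⟨x', hx', he⟩ := h8
      rwa [(MulAut.conj ((a : G) * g)).injective he] at hx'
  have h2 := norm_le_A h1
  have h3 : g = (a : G)⁻¹ * ((a : G) * g) := by group
  rw [h3]
  exact A.mul_mem (A.inv_mem a.2) h2

/-- fixed points of an automorphism of order `p` -/
theorem fixed_mod {N : Type*} [Group N] [Finite N] (φ : MulAut N) {p : ℕ} [Fact p.Prime] (hφ : φ ^ p = 1) :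
    Nat.card N ≡ Nat.card {n : N // φ n = n} [MOD p] := by
  classical
  have := Fintype.ofFinite N
  let f : Function.End N := fun n => φ n
  have h3 : ∀ k : ℕ, ∀ n : N, (f ^ k) n = (φ ^ k) n := by
    intro k
    induction k with
    | zero => intro n; rfl
    | succ k ih => intro n; rw [pow_succ, pow_succ]; exact ih (φ n)
  have h2 := Equiv.Perm.card_fixedPoints_modEq (α := N) (f := f) (p := p) (n := 1) (by
    rw [pow_one]
    funext n
    rw [h3, hφ]
    rfl)
  rw [Nat.card_eq_fintype_card, Nat.card_eq_fintype_card]
  exact h2

/-- no overgroup of index 15 -/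
theorem no15 (B : Base) {K : Subgroup G} (hAK : A ≤ K) (hK : Nat.card K = 3592512000)
    (hL : ∀ L : Subgroup G, A ≤ L → L ≠ ⊤ → Nat.card L = 239500800 ∨ Nat.card L = 3592512000) : False := by
  have := fin
  have hnontriv : Nontrivial K := by
    rw [← Finite.one_lt_card_iff_nontrivial, hK]
    norm_num
  set A' : Subgroup K := A.subgroupOf K with hA'
  have hcA' : Nat.card A' = 239500800 := by
    rw [← card_A]
    exact Nat.card_congr (subgroupOfEquivOfLe hAK).toEquiv
  have hsA' : IsSimpleGroup A' := (MulEquiv.isSimpleGroup_congr (subgroupOfEquivOfLe hAK)).2 inferInstance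
  -- overgroups in `K`
  have hL' : ∀ L : Subgroup K, A' ≤ L → Nat.card L = 239500800 ∨ Nat.card L = 3592512000 := by
    intro L hAL
    have h1 : Nat.card (L.map K.subtype) = Nat.card L :=
      (Nat.card_congr (L.equivMapOfInjective _ K.subtype_injective).toEquiv).symm
    rw [← h1]
    apply hL
    · intro x hx
      exact ⟨⟨x, hAK hx⟩, hAL hx, rfl⟩
    · intro h2
      rw [h2, card_top, card] at h1
      have h3 := Nat.le_of_dvd Nat.card_pos (card_subgroup_dvd_card L)
      rw [← h1, hK] at h3
      exact absurd h3 (by decide)
  -- `A'` is not normal, more generally it contains its normalizer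
  have hnorm : ∀ g : K, (∀ a ∈ A', g * a * g⁻¹ ∈ A') → g ∈ A' := by
    intro g hg
    have h1 : (A.map (MulAut.conj (g : G)).toMonoidHom) = A := by
      refine eq_of_le_of_card_ge ?_ ?_
      · rintro _ ⟨a, ha, rfl⟩
        exact hg ⟨a, hAK ha⟩ ha
      · rw [Nat.card_congr (A.equivMapOfInjective (MulAut.conj (g : G)).toMonoidHom (MulAut.conj (g : G)).injective).toEquiv]
    apply norm_A
    rw [mem_normalizer_iff]
    intro x
    constructor
    · intro hx
      have h8 : (MulAut.conj (g : G)).toMonoidHom x ∈ A.map (MulAut.conj (g : G)).toMonoidHom := ⟨x, hx, rfl⟩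
      rw [h1] at h8
      exact h8
    · intro hx
      have h8 : (MulAut.conj (g : G)).toMonoidHom x ∈ A.map (MulAut.conj (g : G)).toMonoidHom := by
        rw [h1]
        exact hx
      obtain ⟨x', hx', he⟩ := h8
      rwa [(MulAut.conj (g : G)).injective he] at hx'
  have hne : A' ≠ ⊤ := by
    intro h
    rw [h, card_top, hK] at hcA'
    exact absurd hcA' (by norm_num)
  -- `K` is simple
  have hsimple : IsSimpleGroup K := by
    refine ⟨fun N hN => ?_⟩
    by_cases hAN : A' ≤ N
    · right
      rcases hL' N hAN with h | h
      · exfalso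
        have h1 : A' = N := eq_of_le_of_card_ge hAN (by rw [h, hcA'])
        apply hne
        rw [eq_top_iff]
        intro g _
        apply hnorm g
        intro a ha
        rw [h1] at ha ⊢
        exact hN.conj_mem a ha g
      · exact eq_top_of_card_eq _ (by rw [h, hK])
    · left
      -- `N ⊓ A' = ⊥`
      have hbot : N.subgroupOf A' = ⊥ := by
        rcases (inferInstance : (N.subgroupOf A').Normal).eq_bot_or_eq_top with h | h
        · exact h
        · exact absurd (subgroupOf_eq_top.1 h) hAN
      have hcard : Nat.card (A' ⊔ N : Subgroup K) = Nat.card A' * Nat.card N := by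
        have h1 := card_mul_index (N.subgroupOf (A' ⊔ N))
        have h2 : (N.subgroupOf (A' ⊔ N)).index = Nat.card A' := by
          have h3 : N.relIndex (A' ⊔ N) = N.relIndex A' := relIndex_sup_right A' N
          have h4 : N.relIndex A' = Nat.card A' := by
            unfold relIndex
            rw [hbot, index_bot]
          exact h3.trans h4
        rw [h2, Nat.card_congr (subgroupOfEquivOfLe (le_sup_right : N ≤ A' ⊔ N)).toEquiv] at h1
        rw [← h1, mul_comm]
      rcases hL' (A' ⊔ N) le_sup_left with h | h
      · rw [h, hcA'] at hcard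
        have h1 : Nat.card N = 1 := by omega
        exact card_eq_one.1 h1
      · exfalso
        rw [h, hcA'] at hcard
        have h15 : Nat.card N = 15 := by omega
        have : Fact (Nat.Prime 11) := ⟨by norm_num⟩
        obtain ⟨x, hx⟩ := exists_prime_orderOf_dvd_card' (G := A') 11 (by rw [hcA']; norm_num)
        -- `x` centralizes `N`
        let φ : MulAut N := MulAut.conjNormal (x : K)
        have hφ : φ ^ 11 = 1 := by
          have h1 : (x : K) ^ 11 = 1 := by
            have h2 := pow_orderOf_eq_one x
            rw [hx] at h2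
            exact congrArg Subtype.val h2
          show (MulAut.conjNormal (x : K)) ^ 11 = 1
          rw [← map_pow, h1, map_one]
        let F : Subgroup N := { carrier := {n | φ n = n}
                                mul_mem' := fun {a b} ha hb => by
                                  show φ (a * b) = a * b
                                  rw [map_mul, ha, hb]
                                one_mem' := map_one φ
                                inv_mem' := fun {a} ha => by
                                  show φ a⁻¹ = a⁻¹
                                  rw [map_inv, ha] }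
        have hF : Nat.card F = 15 := by
          have h1 : Nat.card N ≡ Nat.card F [MOD 11] := fixed_mod φ hφ
          have h2 := card_subgroup_dvd_card F
          rw [h15] at h1 h2
          have h3 : Nat.card F ∈ Nat.divisors 15 := Nat.mem_divisors.2 ⟨h2, by norm_num⟩
          generalize Nat.card F = m at h1 h3
          have key : ∀ m ∈ Nat.divisors 15, 15 ≡ m [MOD 11] → m = 15 := by decide +kernel
          exact key m h3 h1
        have hFt : F = ⊤ := eq_top_of_card_eq _ (by rw [hF, h15])
        have hxN : ∀ n ∈ N, (x : K) * n * (x : K)⁻¹ = n := by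
          intro n hn
          have h1 : (⟨n, hn⟩ : N) ∈ F := by rw [hFt]; exact mem_top _
          exact congrArg Subtype.val (h1 : φ ⟨n, hn⟩ = ⟨n, hn⟩)
        -- `A'` centralizes `N`
        have hcent : (centralizer (N : Set K)).subgroupOf A' = ⊤ := by
          have hn : (centralizer (N : Set K)).Normal := inferInstance
          rcases (inferInstance : ((centralizer (N : Set K)).subgroupOf A').Normal).eq_bot_or_eq_top with h1 | h1
          · exfalso
            have h2 : x ∈ (centralizer (N : Set K)).subgroupOf A' := by
              rw [mem_subgroupOf, mem_centralizer_iff]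
              intro n hn
              have h3 := hxN n hn
              calc n * (x : K) = ((x : K) * n * (x : K)⁻¹) * (x : K) := by rw [h3]
                _ = (x : K) * n := by group
            rw [h1, mem_bot] at h2
            rw [h2, orderOf_one] at hx
            exact absurd hx (by norm_num)
          · exact h1
        rw [subgroupOf_eq_top] at hcent
        have hNA : N ≤ A' := by
          intro n hn
          apply hnorm n
          intro a ha
          have h1 := mem_centralizer_iff.1 (hcent ha) n hn
          rw [h1, mul_inv_cancel_right]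
          exact ha
        have h1 : N = ⊥ := by
          rw [subgroupOf_eq_bot] at hbot
          exact hbot.eq_bot_of_le hNA
        rw [h1, card_bot] at h15
        exact absurd h15 (by norm_num)
  have hnaK : ¬ ∀ a b : K, a * b = b * a := by
    intro h
    apply hne
    rw [eq_top_iff]
    intro g _
    apply hnorm g
    intro a ha
    rw [h g a, mul_inv_cancel_right]
    exact ha
  have h1 := ords_hn B K hsimple hnaK (by rw [← card]; exact card_subgroup_dvd_card K)
  rw [hK] at h1
  exact absurd h1 (by decide +kernel)

end Cfsg.Agent.H973.SepHN
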