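import Cfsg.Agent.H940.EngData
import Cfsg.Agent.H940.Cover

/-!
# The numerical data for the row `HN` (helper973)
-/

set_option autoImplicit false

namespace Cfsg.Agent.H973.SepHN

open Cfsg.Agent.H940.Eng Cfsg.Agent.H940.Eng.D

/-- the local data -/
def loc : List LD := [⟨7, 420, [(2, 3), (3, 2), (5, 1), (7, 1)]⟩, ⟨11, 22, [(2, 2), (5, 1), (11, 1)]⟩,
  ⟨19, 2885625, [(2, 1), (3, 5), (5, 4), (19, 1)]⟩]

/-- `A12` -/
def i0 : CI := ⟨0, 239500800, [], [239500800]⟩

/-- `H = C(x²)` -/
def i1 : CI := ⟨1, 177408000, [], [177408000]⟩

/-- the normalizer of a Sylow 19-subgroup -/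
def i2 : CI := ⟨2, 19, [19], [171, 3420, 14250, 230850, 961875, 4617000, 16547328, 19237500]⟩

/-- the normalizer of a Sylow 5-subgroup -/
def i3 : CI := ⟨3, 15625, [5], [46875, 125000, 281250, 437500, 750000, 984375, 1687500, 2000000, 2625000, 3796875, 4500000, 5906250, 7000000, 8015625, 8250000, 10125000, 12000000, 15750000, 21375000, 22781250, 27000000, 32000000, 41765625, 42000000, 48093750, 49500000, 60750000, 72000000, 79734375, 94500000, 112000000, 162000000, 192000000, 212625000, 252000000, 288562500, 297000000, 352000000, 364500000, 432000000, 567000000, 672000000, 972000000, 1152000000, 1275750000, 1512000000, 1731375000, 1792000000, 2112000000, 2592000000, 3402000000, 4032000000, 5832000000, 6912000000, 9072000000, 15552000000, 20412000000, 24192000000, 54432000000, 93312000000, 145152000000, 171072000000, 258552000000, 326592000000, 1026432000000, 1551312000000]⟩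

/-- the normalizer of a Sylow 2-subgroup -/
def i4 : CI := ⟨4, 16384, [2], [16384, 49152, 81920, 114688, 147456, 245760, 344064, 409600, 442368, 573440, 737280, 1032192, 1228800, 1327104, 1720320, 2048000, 2211840, 2703360, 2867200, 3096576, 3686400, 3981312, 5160960, 6144000, 6635520, 8110080, 8601600, 9289728, 10240000, 11059200, 11943936, 15482880, 18432000, 19906560, 25804800, 27869184, 30720000, 33177600, 46448640, 51200000, 55296000, 59719680, 77414400, 83607552, 92160000, 99532800, 129024000, 139345920, 153600000, 165888000, 232243200, 256000000, 276480000, 298598400, 387072000, 418037760, 460800000, 497664000, 645120000, 656916480, 696729600, 768000000, 829440000, 1161216000, 1382400000, 1492992000, 1792000000, 1935360000, 2090188800, 2304000000, 2488320000, 3225600000, 3483648000, 4147200000, 5376000000, 5806080000, 6912000000, 7464960000, 8448000000, 9676800000, 10450944000, 12441600000, 16128000000, 17418240000, 20736000000, 25344000000, 29030400000, 37324800000, 48384000000, 52254720000, 62208000000, 145152000000, 186624000000, 435456000000, 1306368000000, 2052864000000]⟩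

/-- the normalizer of a Sylow 3-subgroup -/
def i5 : CI := ⟨5, 729, [3], [1458, 3645, 5832, 10206, 14580, 23328, 25515, 36450, 40824, 58320, 91125, 93312, 102060, 145800, 163296, 233280, 255150, 277020, 320760, 364500, 373248, 408240, 583200, 653184, 692550, 911250, 933120, 1020600, 1458000, 1492992, 1632960, 1731375, 2278125, 2332800, 2612736, 2770200, 3645000, 3732480, 4082400, 5832000, 5971968, 6531840, 6925500, 9112500, 9331200, 10450944, 14580000, 14929920, 16329600, 17313750, 22781250, 23328000, 26127360, 36450000, 37324800, 40824000, 41803776, 43284375, 49641984, 58320000, 59719680, 65318400, 69255000, 91125000, 93312000, 104509440, 145800000, 149299200, 159468750, 163296000, 173137500, 233280000, 261273600, 328458240, 364500000, 373248000, 408240000, 418037760, 432843750, 496419840, 501187500, 583200000, 637875000, 653184000, 898128000, 933120000, 1045094400, 1241049600, 1458000000, 1492992000, 1632960000, 1731375000, 2004750000, 2332800000, 2551500000, 2612736000, 3592512000, 3732480000, 5832000000, 6531840000, 9331200000, 10206000000, 10450944000, 23328000000, 26127360000, 37324800000, 40824000000, 93312000000,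 163296000000, 513216000000, 653184000000, 775656000000, 2052864000000]⟩

end Cfsg.Agent.H973.SepHN
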