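import Cfsg.Agent.H973.SepHN.Items
import Cfsg.Agent.H940.EngLoc
import Cfsg.Agent.H845.HNSeven
import Cfsg.Agent.H149.Sp.HNEleven
import Cfsg.Agent.H904.HSIso
import Cfsg.Agent.H443.HN.Frame

/-!
# Local data of `HN` for the row `HN` of S5906, S5907 (helper973, task 1429 of helper940)

* `c11` : `|C(R)| = 22`, `|N(R)| = 220` for `|R| = 11` : an element of order 11 of `H = C(x²)` fixes exactly one of the
  1539000 points, as the suborbit lengths are divisible by 11;
* `loc7`, `loc11`, `loc19` : the local data.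
-/

set_option autoImplicit false

namespace Cfsg.Agent.H973.SepHN

open Subgroup Cfsg.Agent.HN Cfsg.Agent.HN.NormalH Cfsg.Agent.HN.DCover Cfsg.Agent.HN.Distinct
  Cfsg.Agent.HN.Index Cfsg.Agent.OrdDiv Cfsg.Agent.H940 Cfsg.Agent.H940.Eng Cfsg.Agent.H940.Eng.D
open Cfsg.Agent.H443.HN.Frame (typ typ_zero sz_typ sz_mul_stab sizes_aux X2 cen mem_H_iff)

/-- the group -/
abbrev G : Type := Cfsg.Spor.HN

theorem simple : IsSimpleGroup G := Cfsg.Agent.S1701.result.1
theorem card : Nat.card G = n_hn := Cfsg.Agent.S1701.result.2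
theorem fin : Finite G := Nat.finite_of_card_ne_zero (by rw [card]; decide)

theorem card_H : Nat.card H = 177408000 := by
  rw [← Cfsg.Agent.KFacts.HN.Classes.centralizer_τ]
  exact Cfsg.Agent.KFacts.HN.Classes.card_centralizer_τ

/-- the lengths of the suborbits -/
theorem sz_key (i : Fin 9) :
    Count.sz H (w9 i) = (![1, 1408, 2200, 35200, 123200, 354816, 739200, 5775, 277200] : Fin 9 → ℕ) i := by
  have s0 : Count.sz H (w9 0) = 1 := by rw [w9_zero]; exact Count.sz_one H
  have s1 : Count.sz H (w9 0) * 1408 = Count.sz H (w9 1) * 1 := balance hdis 0 1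
  have s2 : Count.sz H (w9 1) * 50 = Count.sz H (w9 2) * 32 := balance hdis 1 2
  have s3 : Count.sz H (w9 1) * 450 = Count.sz H (w9 3) * 18 := balance hdis 1 3
  have s4 : Count.sz H (w9 1) * 350 = Count.sz H (w9 4) * 4 := balance hdis 1 4
  have s5 : Count.sz H (w9 1) * 504 = Count.sz H (w9 5) * 2 := balance hdis 1 5
  have s6 : Count.sz H (w9 2) * 672 = Count.sz H (w9 6) * 2 := balance hdis 2 6
  have s7 : Count.sz H (w9 6) * 10 = Count.sz H (w9 7) * 1280 := balance hdis 6 7
  have s8 : Count.sz H (w9 6) * 240 = Count.sz H (w9 8) * 640 := balance hdis 6 8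
  have hs := sizes_aux s0 s1 s2 s3 s4 s5 s6 s7 s8
  fin_cases i
  · exact s0
  · exact hs.1
  · exact hs.2.1
  · exact hs.2.2.1
  · exact hs.2.2.2.1
  · exact hs.2.2.2.2.1
  · exact hs.2.2.2.2.2.1
  · exact hs.2.2.2.2.2.2.1
  · exact hs.2.2.2.2.2.2.2

/-- **an element of order 11 fixes one point** -/
theorem mem_H_of_eleven {v : G} (hvH : v ∈ H) (hv : orderOf v = 11) {g : G} (hg : g * v * g⁻¹ ∈ H) : g ∈ H := by
  have := fin
  rw [← typ_zero]
  by_contra hne
  have h1 := sz_mul_stab g
  rw [card_H, sz_typ, sz_key] at h1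
  -- 11 divides the order of the stabilizer
  let S : Subgroup H := (H.comap (MulAut.conj g).toMonoidHom).subgroupOf H
  have hS : Nat.card {h : H // g * (h : G) * g⁻¹ ∈ H} = Nat.card S := rfl
  have h11 : 11 ∣ Nat.card S := by
    have h2 : (⟨v, hvH⟩ : H) ∈ S := hg
    have h3 := Subgroup.orderOf_dvd_natCard S h2
    rwa [Subgroup.orderOf_mk, hv] at h3
  rw [hS] at h1
  obtain ⟨m, hm⟩ := h11
  rw [hm] at h1
  generalize typ g = i at h1 hne
  have key : ∀ i : Fin 9, i ≠ 0 → (![1, 1408, 2200, 35200, 123200, 354816, 739200, 5775, 277200] : Fin 9 → ℕ) i % 11 = 0 := by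
    decide
  have h2 := key i hne
  obtain ⟨k, hk⟩ := Nat.dvd_of_mod_eq_zero h2
  rw [hk] at h1
  have h3 : 121 ∣ 177408000 := ⟨k * m, by rw [← h1]; ring⟩
  exact absurd h3 (by norm_num)

theorem hs_eleven (y : Cfsg.Spor.HS) (hy : orderOf y = 11) : Nat.card (centralizer ({y} : Set Cfsg.Spor.HS)) = 11 :=
  Cfsg.Agent.H904.HSIso.card_eleven ⟨MulEquiv.refl _⟩ hy

open Cfsg.Agent.KFacts.HN.Classes in
theorem card_dvd_H {x : H} (hx : orderOf x = 11) : Nat.card (centralizer ({x} : Set H)) ∣ 44 := by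
  have := fin
  obtain ⟨K, -, hK, hZ, ⟨e⟩, -⟩ := exists_double_cover_H Cfsg.Agent.HN.Upper.card_H0_le.1
    Cfsg.Agent.HN.Upper.card_H0_le.2 Cfsg.Agent.HN.XSq.hx_sq_ne
  have hf : Finite Cfsg.Spor.HS := by
    obtain ⟨D⟩ := Cfsg.Agent.KFacts.HS.exists_mod (L := Cfsg.Spor.HS) ⟨MulEquiv.refl _⟩
    exact D.finite
  exact Cfsg.Agent.H845.HNSevenA.card_dvd (n := 11) (by norm_num) (by norm_num) K hK hZ e
    (fun y hy => hs_eleven y hy) hx

theorem exists_v : ∃ v : G, v ∈ H ∧ orderOf v = 11 := by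
  have := fin
  have : Fact (Nat.Prime 11) := ⟨by norm_num⟩
  obtain ⟨v, hv⟩ := exists_prime_orderOf_dvd_card' (G := H) 11 (by rw [card_H]; norm_num)
  exact ⟨v, v.2, by rw [Subgroup.orderOf_coe, hv]⟩

theorem cent_eleven {v : G} (hvH : v ∈ H) (hv : orderOf v = 11) : Nat.card (centralizer ({v} : Set G)) ∣ 44 := by
  have := fin
  have hle : centralizer ({v} : Set G) ≤ H := by
    intro g hg
    apply mem_H_of_eleven hvH hv
    have h1 := mem_centralizer_singleton_iff.1 hg
    rw [h1, mul_inv_cancel_right]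
    exact hvH
  let F : centralizer ({v} : Set G) →* centralizer ({(⟨v, hvH⟩ : H)} : Set H) :=
    { toFun := fun g => ⟨⟨g, hle g.2⟩, mem_centralizer_singleton_iff.2
        (Subtype.ext (mem_centralizer_singleton_iff.1 g.2))⟩
      map_one' := rfl
      map_mul' := fun _ _ => rfl }
  have hF : Function.Injective F := by
    intro a b hab
    have h1 := congrArg (fun z : centralizer ({(⟨v, hvH⟩ : H)} : Set H) => ((z : H) : G)) hab
    exact Subtype.ext h1
  refine (Subgroup.card_dvd_of_injective F hF).trans (card_dvd_H ?_)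
  rw [Subgroup.orderOf_mk]
  exact hv

theorem hna : ¬ ∀ a b : G, a * b = b * a := by
  intro h
  have h1 : centralizer ({Cfsg.Agent.H845.HNSeven.X7} : Set G) = ⊤ := by
    rw [eq_top_iff]
    intro x _
    exact mem_centralizer_singleton_iff.2 (h _ _)
  have h2 := Cfsg.Agent.H845.HNSeven.card_cent
  rw [h1, card_top, card] at h2
  exact absurd h2 (by decide)

theorem exists11 : ∃ R0 : Subgroup G, Nat.card R0 = 11 ∧ Nat.card (centralizer (R0 : Set G)) ∣ prodl [(2, 1), (11, 1)] := by
  have := fin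
  obtain ⟨v, hvH, hv⟩ := exists_v
  refine ⟨zpowers v, by rw [Nat.card_zpowers, hv], ?_⟩
  rw [H904.SylOne.centralizer_zpowers_eq]
  have h1 := cent_eleven hvH hv
  have h2 := Cfsg.Agent.H149.Sp.hn_cent_eleven v hv
  have h3 : Nat.card (centralizer ({v} : Set G)) ∈ Nat.divisors 44 := Nat.mem_divisors.2 ⟨h1, by norm_num⟩
  generalize Nat.card (centralizer ({v} : Set G)) = m at h2 h3
  have key : ∀ m ∈ Nat.divisors 44, ¬ 4 ∣ m → m ∣ prodl [(2, 1), (11, 1)] := by decide +kernel
  exact key m h3 h2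

theorem exists7 : ∃ R0 : Subgroup G, Nat.card R0 = 7 ∧
    Nat.card (centralizer (R0 : Set G)) ∣ prodl [(2, 2), (3, 1), (5, 1), (7, 1)] := by
  refine ⟨zpowers Cfsg.Agent.H845.HNSeven.X7, by rw [Nat.card_zpowers, Cfsg.Agent.H845.HNSeven.order_X7], ?_⟩
  rw [H904.SylOne.centralizer_zpowers_eq, Cfsg.Agent.H845.HNSeven.card_cent]
  decide +kernel

theorem c7 {R : Subgroup G} (hR : Nat.card R = 7) :
    Nat.card (centralizer (R : Set G)) = 420 ∧ Nat.card (normalizer (R : Set G)) = 2520 := by
  have := fin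
  have := simple
  obtain ⟨R0, h0, h1⟩ := exists7
  have h3 := cnP_sound hna card (r := 7) (by decide +kernel) (by decide +kernel) (by decide +kernel) h0 h1
    (P := fun c m => c != 420 || m == 2520) (by decide +kernel) hR
  have h4 : Nat.card (centralizer (R : Set G)) = 420 := by
    have : Fact (Nat.Prime 7) := ⟨by norm_num⟩
    have h5 : ¬ 7 ^ 2 ∣ Nat.card G := by rw [card]; decide +kernel
    rw [H904.SylOne.card_centralizer_eq hR (Q := zpowers Cfsg.Agent.H845.HNSeven.X7)
      (by rw [Nat.card_zpowers, Cfsg.Agent.H845.HNSeven.order_X7]) h5, H904.SylOne.centralizer_zpowers_eq,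
      Cfsg.Agent.H845.HNSeven.card_cent]
  refine ⟨h4, ?_⟩
  rw [h4] at h3
  simpa using h3

theorem c11 {R : Subgroup G} (hR : Nat.card R = 11) :
    Nat.card (centralizer (R : Set G)) = 22 ∧ Nat.card (normalizer (R : Set G)) = 220 := by
  have := fin
  have := simple
  obtain ⟨R0, h0, h1⟩ := exists11
  exact cn_exact hna card (r := 11) (by decide +kernel) (by decide +kernel) (by decide +kernel) h0 h1 (by decide +kernel) hR

theorem exists19 : ∃ R0 : Subgroup G, Nat.card R0 = 19 ∧
    Nat.card (centralizer (R0 : Set G)) ∣ prodl [(3, 6), (5, 6), (19, 1)] := by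
  have := fin
  obtain ⟨R0, h0⟩ := exists_card_eq (G := G) (r := 19) (by decide +kernel) (by rw [card]; decide +kernel)
  refine ⟨R0, h0, ?_⟩
  have hd : Nat.card (centralizer (R0 : Set G)) ∣ n_hn := by rw [← card]; exact card_subgroup_dvd_card _
  refine dvd_filter v_hn hd [2, 7, 11] ?_
  intro p hp
  simp only [List.mem_cons, List.not_mem_nil, or_false] at hp
  have hz : ∀ y : G, centralizer ({y} : Set G) = centralizer ((zpowers y : Subgroup G) : Set G) := fun y =>
    (H904.SylOne.centralizer_zpowers_eq y).symm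
  rcases hp with rfl | rfl | rfl
  · refine not_dvd_cent (r := 19) (by norm_num) (by norm_num) h0 fun y hy => ?_
    rcases Cfsg.Agent.SigZeroHN.card_centralizer_cases hy with ⟨-, h⟩ | ⟨-, h⟩ <;> rw [h] <;> norm_num
  · refine not_dvd_cent (r := 19) (by norm_num) (by norm_num) h0 fun y hy => ?_
    rw [hz, (c7 (R := zpowers y) (by rw [Nat.card_zpowers, hy])).1]
    norm_num
  · refine not_dvd_cent (r := 19) (by norm_num) (by norm_num) h0 fun y hy => ?_
    rw [hz, (c11 (R := zpowers y) (by rw [Nat.card_zpowers, hy])).1]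
    norm_num

theorem ctx (B : Base) : Ctx G l_hn n_hn o_hn loc where
  fin := fin
  simple := simple
  card := card
  val := v_hn
  nodup := nd_hn
  ords := ords_hn B
  loc := by
    have := fin
    have := simple
    intro ld hld
    simp only [loc, List.mem_cons, List.not_mem_nil, or_false] at hld
    rcases hld with rfl | rfl | rfl
    · exact loc_of_eq card (by decide +kernel) (by decide +kernel) (by decide +kernel) fun R hR => by
        obtain ⟨h1, h2⟩ := c7 hR
        rw [h1, h2]; decide +kernel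
    · exact loc_of_eq card (by decide +kernel) (by decide +kernel) (by decide +kernel) fun R hR => by
        obtain ⟨h1, h2⟩ := c11 hR
        rw [h1, h2]; decide +kernel
    · obtain ⟨R0, h0, h1⟩ := exists19
      exact loc_of_cent hna card (by decide +kernel) (by decide +kernel) (by decide +kernel) h0 h1 (by decide +kernel)
        (by decide +kernel)

end Cfsg.Agent.H973.SepHN
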